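import Mathlib

/-!
# Locally constant cocycles of an absolute Galois group
-/

set_option autoImplicit false

universe u

namespace GrpCohLib

variable {K L : Type u} [Field K] [Field L] [Algebra K L] [IsGalois K L]

/-- A locally constant cocycle with values in the top field comes from a finite Galois subextension. -/
theorem exists_finite_level {M : Type u} [Group M] [MulDistribMulAction (L ≃ₐ[K] L) M]
    (a : (L ≃ₐ[K] L) → M) (ha : ∀ σ τ, a (σ * τ) = a σ * σ • a τ) (hlc : IsLocallyConstant a) :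
    ∃ E : FiniteGaloisIntermediateField K L,
      (∀ σ τ : L ≃ₐ[K] L, AlgEquiv.restrictNormalHom E.toIntermediateField σ =
        AlgEquiv.restrictNormalHom E.toIntermediateField τ → a σ = a τ) ∧
      ∀ (σ : L ≃ₐ[K] L), ∀ τ ∈ E.fixingSubgroup, τ • a σ = a σ := by
  have h1 : a 1 = 1 := by
    have := ha 1 1
    rw [mul_one, one_smul] at this
    exact left_eq_mul.1 this
  have hopen : a ⁻¹' {1} ∈ nhds (1 : L ≃ₐ[K] L) := (hlc.isOpen_fiber 1).mem_nhds h1
  obtain ⟨E, hE⟩ := (InfiniteGalois.krullTopology_mem_nhds_one_iff_of_isGalois _).1 hopen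
  have hker : (AlgEquiv.restrictNormalHom (F := K) (K₁ := L) E.toIntermediateField).ker = E.fixingSubgroup :=
    IntermediateField.restrictNormalHom_ker _
  have hright : ∀ (σ : L ≃ₐ[K] L), ∀ τ ∈ E.fixingSubgroup, a (σ * τ) = a σ := fun σ τ hτ => by
    rw [ha, show a τ = 1 from hE hτ, smul_one, mul_one]
  refine ⟨E, fun σ τ h => ?_, fun σ τ hτ => ?_⟩
  · have hmem : σ⁻¹ * τ ∈ E.fixingSubgroup := by
      rw [← hker, MonoidHom.mem_ker, map_mul, map_inv, h, inv_mul_cancel]
    rw [← hright σ _ hmem, mul_inv_cancel_left]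
  · have hmem : σ⁻¹ * τ * σ ∈ E.fixingSubgroup := by
      rw [← hker, MonoidHom.mem_ker] at hτ ⊢
      rw [map_mul, map_mul, hτ, mul_one, map_inv, inv_mul_cancel]
    have h2 := ha τ σ
    rw [show a τ = 1 from hE hτ, one_mul] at h2
    rw [← h2, ← hright σ _ hmem]
    congr 1
    group

theorem mem_of_fixed (E : FiniteGaloisIntermediateField K L) {x : L}
    (hx : ∀ τ ∈ E.fixingSubgroup, τ x = x) : x ∈ E.toIntermediateField := by
  rw [← InfiniteGalois.fixedField_fixingSubgroup E.toIntermediateField, IntermediateField.mem_fixedField_iff]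
  exact hx

/-- **Hilbert 90** for the absolute Galois group. -/
theorem exists_units_cobound (a : (L ≃ₐ[K] L) → Lˣ)
    (ha : ∀ σ τ, a (σ * τ) = a σ * σ • a τ) (hlc : IsLocallyConstant a) :
    ∃ c : Lˣ, ∀ σ : L ≃ₐ[K] L, a σ = c⁻¹ * σ • c := by
  obtain ⟨E, hfac, hfix⟩ := exists_finite_level a ha hlc
  let res : (L ≃ₐ[K] L) →* (E ≃ₐ[K] E) := AlgEquiv.restrictNormalHom E.toIntermediateField
  have hres : Function.Surjective res := AlgEquiv.restrictNormalHom_surjective L
  have hmem : ∀ σ, (a σ : L) ∈ E.toIntermediateField := fun σ =>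
    mem_of_fixed E fun τ hτ => congrArg Units.val (hfix σ τ hτ)
  choose s hs using hres
  let f : (E ≃ₐ[K] E) → Eˣ := fun g => Units.mk0 ⟨(a (s g) : L), hmem _⟩ fun h =>
    (a (s g)).ne_zero (congrArg Subtype.val h)
  have hf : ∀ σ, ((f (res σ) : E) : L) = a σ := fun σ => congrArg Units.val (hfac _ _ (hs (res σ)))
  obtain ⟨β, hβ⟩ := groupCohomology.isMulCoboundary₁_of_isMulCocycle₁_of_aut_to_units f fun g g' => by
    refine Units.ext (Subtype.ext ?_)
    rw [← hs g, ← hs g', ← map_mul, hf, ha]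
    change _ = (((res (s g)) (f (res (s g')) : E) : E) : L) * ((f (res (s g)) : E) : L)
    rw [AlgEquiv.restrictNormalHom_apply, hf, hf, mul_comm]
    rfl
  refine ⟨Units.map (E.toIntermediateField.val : E →* L) β, fun σ => ?_⟩
  rw [eq_inv_mul_iff_mul_eq]
  refine Units.ext ?_
  have h := congrArg (fun t : Eˣ => ((t : E) : L)) (div_eq_iff_eq_mul.1 (hβ (res σ)))
  simp only [Units.val_mul, MulMemClass.coe_mul] at h
  rw [hf] at h
  change ((β : E) : L) * (a σ : L) = σ ((β : E) : L)
  rw [mul_comm, ← h]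
  exact AlgEquiv.restrictNormalHom_apply E.toIntermediateField σ (β : E)

/-- The additive version. -/
theorem exists_add_cobound (a : (L ≃ₐ[K] L) → L)
    (ha : ∀ σ τ, a (σ * τ) = a σ + σ (a τ)) (hlc : IsLocallyConstant a) :
    ∃ y : L, ∀ σ : L ≃ₐ[K] L, a σ = σ y - y := by
  let inst : MulDistribMulAction (L ≃ₐ[K] L) (Multiplicative L) :=
    { smul := fun σ x => Multiplicative.ofAdd (σ x.toAdd)
      one_smul := fun x => rfl
      mul_smul := fun σ τ x => rfl
      smul_mul := fun σ x y => congrArg Multiplicative.ofAdd (map_add σ x.toAdd y.toAdd)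
      smul_one := fun σ => congrArg Multiplicative.ofAdd (map_zero σ) }
  obtain ⟨E, hfac, hfix⟩ := exists_finite_level (M := Multiplicative L) (fun σ => Multiplicative.ofAdd (a σ))
    (fun σ τ => congrArg Multiplicative.ofAdd (ha σ τ)) (hlc.comp Multiplicative.ofAdd)
  let res : (L ≃ₐ[K] L) →* (E ≃ₐ[K] E) := AlgEquiv.restrictNormalHom E.toIntermediateField
  have hres : Function.Surjective res := AlgEquiv.restrictNormalHom_surjective L
  have hmem : ∀ σ, a σ ∈ E.toIntermediateField := fun σ =>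
    mem_of_fixed E fun τ hτ => congrArg Multiplicative.toAdd (hfix σ τ hτ)
  choose s hs using hres
  let f : (E ≃ₐ[K] E) → E := fun g => ⟨a (s g), hmem _⟩
  have hf : ∀ σ, (f (res σ) : L) = a σ := fun σ =>
    Multiplicative.ofAdd.injective (hfac _ _ (hs (res σ)))
  have hcoc : ∀ g g', f (g * g') = f g + g (f g') := fun g g' => by
    refine Subtype.ext ?_
    rw [← hs g, ← hs g', ← map_mul, hf, ha]
    change _ = (f (res (s g)) : L) + ((res (s g)) (f (res (s g'))) : L)
    rw [AlgEquiv.restrictNormalHom_apply, hf, hf]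
  obtain ⟨c, hc⟩ := Algebra.trace_surjective K E 1
  have hc' : ∑ g : E ≃ₐ[K] E, g c = 1 := by rw [← trace_eq_sum_automorphisms, hc, map_one]
  let y : E := -∑ g : E ≃ₐ[K] E, f g * g c
  refine ⟨y, fun σ => ?_⟩
  have key : res σ y - y = f (res σ) := by
    have h1 : res σ (∑ g : E ≃ₐ[K] E, f g * g c) = ∑ g : E ≃ₐ[K] E, (f g - f (res σ)) * g c := by
      rw [map_sum]
      refine Fintype.sum_equiv (Equiv.mulLeft (res σ)) _ _ fun g => ?_
      rw [Equiv.coe_mulLeft, map_mul, hcoc, add_sub_cancel_left]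
      rfl
    simp only [y, map_neg, h1, sub_mul, Finset.sum_sub_distrib, ← Finset.mul_sum, hc', mul_one]
    abel
  rw [← hf, ← key]
  change ((res σ y : E) : L) - (y : L) = _
  rw [AlgEquiv.restrictNormalHom_apply]

end GrpCohLib
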