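import Mathlib

/-!
# Symmetric and exterior squares in characteristic two
-/

set_option autoImplicit false

universe u v w

open scoped TensorProduct

namespace GrpCohLib

variable {V : Type v} [AddCommGroup V] [Module (ZMod 2) V]

local notation "𝔽" => ZMod 2

/-- The span of squares. -/
abbrev sq2 (V : Type v) [AddCommGroup V] [Module (ZMod 2) V] : Submodule (ZMod 2) (V ⊗[ZMod 2] V) :=
  Submodule.span (ZMod 2) (Set.range fun v : V => v ⊗ₜ[ZMod 2] v)

/-- The span of symmetrised tensors. -/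
abbrev sym2 (V : Type v) [AddCommGroup V] [Module (ZMod 2) V] : Submodule (ZMod 2) (V ⊗[ZMod 2] V) :=
  Submodule.span (ZMod 2) (Set.range fun p : V × V => p.1 ⊗ₜ[ZMod 2] p.2 + p.2 ⊗ₜ[ZMod 2] p.1)

theorem add_self_zero (x : V ⊗[𝔽] V) : x + x = 0 := by
  rw [← one_smul 𝔽 x, ← add_smul, show (1 : 𝔽) + 1 = 0 from rfl, zero_smul]

theorem sym2_le_sq2 : sym2 V ≤ sq2 V := by
  refine Submodule.span_le.2 ?_
  rintro _ ⟨⟨v, w⟩, rfl⟩
  have : v ⊗ₜ[𝔽] w + w ⊗ₜ[𝔽] v = (v + w) ⊗ₜ[𝔽] (v + w) - v ⊗ₜ v - w ⊗ₜ w := by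
    simp only [TensorProduct.add_tmul, TensorProduct.tmul_add]; abel
  rw [SetLike.mem_coe]
  change v ⊗ₜ[𝔽] w + w ⊗ₜ[𝔽] v ∈ sq2 V
  rw [this]
  exact sub_mem (sub_mem (Submodule.subset_span ⟨_, rfl⟩) (Submodule.subset_span ⟨v, rfl⟩))
    (Submodule.subset_span ⟨w, rfl⟩)

variable {G : Type u} [Group G] (ρ : Representation 𝔽 G V)

theorem tprod_mem_sym2 (g : G) {z : V ⊗[𝔽] V} (hz : z ∈ sym2 V) : ρ.tprod ρ g z ∈ sym2 V := by
  induction hz using Submodule.span_induction with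
  | mem x hx =>
    obtain ⟨⟨v, w⟩, rfl⟩ := hx
    exact Submodule.subset_span ⟨(ρ g v, ρ g w), by simp⟩
  | zero => simp
  | add x y _ _ hx hy => rw [map_add]; exact add_mem hx hy
  | smul c x _ hx => rw [map_smul]; exact Submodule.smul_mem _ c hx

theorem exists_split_of_perm {ι : Type w} (b : Module.Basis ι 𝔽 V)
    (hb : ∀ g : G, ∀ i : ι, ∃ j : ι, ρ g (b i) = b j) :
    ∃ W : Submodule 𝔽 (V ⊗[𝔽] V), (∀ g : G, ∀ w ∈ W, ρ.tprod ρ g w ∈ W) ∧
      W ⊓ sq2 V = sym2 V ∧ W ⊔ sq2 V = ⊤ := by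
  classical
  let B := b.tensorProduct b
  let W : Submodule 𝔽 (V ⊗[𝔽] V) :=
    Submodule.span 𝔽 {z | ∃ i j, i ≠ j ∧ z = b i ⊗ₜ[𝔽] b j}
  have hoff : ∀ i j, i ≠ j → b i ⊗ₜ[𝔽] b j ∈ W := fun i j h => Submodule.subset_span ⟨i, j, h, rfl⟩
  -- symmetric tensors avoid the diagonal
  have hD : sym2 V ≤ W := by
    refine Submodule.span_le.2 ?_
    rintro _ ⟨⟨v, w⟩, rfl⟩
    change v ⊗ₜ[𝔽] w + w ⊗ₜ[𝔽] v ∈ W
    conv in (occs := *) v => all_goals rw [← b.linearCombination_repr v]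
    conv in (occs := *) w => all_goals rw [← b.linearCombination_repr w]
    simp only [Finsupp.linearCombination_apply, Finsupp.sum, TensorProduct.sum_tmul, TensorProduct.tmul_sum]
    rw [Finset.sum_comm (s := (b.repr v).support) (t := (b.repr w).support), ← Finset.sum_add_distrib]
    refine W.sum_mem fun i _ => ?_
    rw [← Finset.sum_add_distrib]
    refine W.sum_mem fun j _ => ?_
    simp only [TensorProduct.smul_tmul', TensorProduct.tmul_smul, smul_smul]
    rw [mul_comm ((b.repr v) j)]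
    rcases eq_or_ne i j with rfl | h
    · rw [add_self_zero]; exact zero_mem W
    · exact add_mem (W.smul_mem _ (hoff _ _ h.symm)) (W.smul_mem _ (hoff _ _ h))
  have hdiag : ∀ z ∈ W, ∀ i, B.repr z (i, i) = 0 := by
    intro z hz i
    induction hz using Submodule.span_induction with
    | mem x hx =>
      obtain ⟨p, q, hpq, rfl⟩ := hx
      rw [show b p ⊗ₜ[𝔽] b q = B (p, q) from (Module.Basis.tensorProduct_apply b b p q).symm,
        Module.Basis.repr_self, Finsupp.single_eq_of_ne]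
      intro h
      exact hpq ((Prod.mk.inj h).1.symm.trans (Prod.mk.inj h).2)
    | zero => simp
    | add x y _ _ hx hy => simp [hx, hy]
    | smul c x _ hx => simp [hx]
  -- squares are a diagonal part plus symmetric tensors
  let Δ : Submodule 𝔽 (V ⊗[𝔽] V) := Submodule.span 𝔽 (Set.range fun i => b i ⊗ₜ[𝔽] b i)
  have hsq : sq2 V ≤ Δ ⊔ sym2 V := by
    refine Submodule.span_le.2 ?_
    rintro _ ⟨v, rfl⟩
    change v ⊗ₜ[𝔽] v ∈ Δ ⊔ sym2 V
    have hv : v ∈ Submodule.span 𝔽 (Set.range b) := by rw [b.span_eq]; exact Submodule.mem_top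
    induction hv using Submodule.span_induction with
    | mem x hx =>
      obtain ⟨i, rfl⟩ := hx
      exact Submodule.mem_sup_left (Submodule.subset_span ⟨i, rfl⟩)
    | zero => simp
    | add x y _ _ hx hy =>
      rw [show (x + y) ⊗ₜ[𝔽] (x + y) = (x ⊗ₜ x + y ⊗ₜ y) + (x ⊗ₜ[𝔽] y + y ⊗ₜ x) by
        simp only [TensorProduct.add_tmul, TensorProduct.tmul_add]; abel]
      exact add_mem (add_mem hx hy) (Submodule.mem_sup_right (Submodule.subset_span ⟨(x, y), rfl⟩))
    | smul c x _ hx =>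
      rw [TensorProduct.smul_tmul_smul]
      exact Submodule.smul_mem _ _ hx
  refine ⟨W, fun g z hz => ?_, le_antisymm ?_ (le_inf hD sym2_le_sq2), ?_⟩
  · induction hz using Submodule.span_induction with
    | mem x hx =>
      obtain ⟨i, j, hij, rfl⟩ := hx
      obtain ⟨i', hi⟩ := hb g i
      obtain ⟨j', hj⟩ := hb g j
      have hne : i' ≠ j' := fun h => hij (b.injective ((ρ.apply_bijective g).1 (by rw [hi, hj, h])))
      simpa [hi, hj] using hoff i' j' hne
    | zero => simp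
    | add x y _ _ hx hy => rw [map_add]; exact add_mem hx hy
    | smul c x _ hx => rw [map_smul]; exact Submodule.smul_mem _ c hx
  · rintro z ⟨hzW, hzS⟩
    obtain ⟨x, hx, y, hy, rfl⟩ := Submodule.mem_sup.1 (hsq hzS)
    suffices x = 0 by simpa [this] using hy
    have hxW : x ∈ W := by simpa using sub_mem hzW (hD hy)
    apply B.repr.injective
    rw [map_zero]
    refine Finsupp.ext fun ⟨p, q⟩ => ?_
    rcases eq_or_ne p q with rfl | hpq
    · exact hdiag x hxW p
    · clear hxW hzW hzS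
      induction hx using Submodule.span_induction with
      | mem x hx =>
        obtain ⟨i, rfl⟩ := hx
        change B.repr (b i ⊗ₜ[𝔽] b i) (p, q) = 0
        rw [show b i ⊗ₜ[𝔽] b i = B (i, i) from (Module.Basis.tensorProduct_apply b b i i).symm,
          Module.Basis.repr_self, Finsupp.single_eq_of_ne]
        intro h
        exact hpq ((Prod.mk.inj h).1.trans (Prod.mk.inj h).2.symm)
      | zero => simp
      | add x y _ _ hx hy => simp [hx, hy]
      | smul c x _ hx => simp [hx]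
  · rw [eq_top_iff, ← B.span_eq, Submodule.span_le]
    rintro _ ⟨⟨i, j⟩, rfl⟩
    rw [Module.Basis.tensorProduct_apply]
    rcases eq_or_ne i j with rfl | h
    · exact Submodule.mem_sup_right (Submodule.subset_span ⟨_, rfl⟩)
    · exact Submodule.mem_sup_left (hoff i j h)

section Pair

/-- The invariant tensor of an ordered pair. -/
def pairT (x y : V) : V ⊗[𝔽] V := x ⊗ₜ x + y ⊗ₜ y + x ⊗ₜ y

theorem pairT_swap (x y : V) : pairT y x - pairT x y ∈ sym2 V := by
  have h : pairT y x - pairT x y = (x ⊗ₜ[𝔽] y + y ⊗ₜ x) - (x ⊗ₜ[𝔽] y + x ⊗ₜ y) := by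
    simp only [pairT]; abel
  rw [h, add_self_zero, sub_zero]
  exact Submodule.subset_span ⟨(x, y), rfl⟩

theorem pairT_left (x y : V) : pairT x (x + y) = pairT y x := by
  simp only [pairT, TensorProduct.tmul_add, TensorProduct.add_tmul]
  have h1 : x ⊗ₜ[𝔽] x + x ⊗ₜ[𝔽] x = 0 := add_self_zero _
  have h2 : x ⊗ₜ[𝔽] y + x ⊗ₜ[𝔽] y = 0 := add_self_zero _
  linear_combination (norm := abel) h1 + h2

theorem pairT_right (x y : V) : pairT (x + y) y = pairT y x := by
  simp only [pairT, TensorProduct.tmul_add, TensorProduct.add_tmul]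
  have h1 : y ⊗ₜ[𝔽] y + y ⊗ₜ[𝔽] y = 0 := add_self_zero _
  have h2 : x ⊗ₜ[𝔽] y + x ⊗ₜ[𝔽] y = 0 := add_self_zero _
  linear_combination (norm := abel) h1 + h2

theorem pairT_invariant (g : G) {a c : V}
    (hli : LinearIndependent 𝔽 ![ρ g a, ρ g c]) (ha : ρ g a ∈ Submodule.span 𝔽 {a, c})
    (hc : ρ g c ∈ Submodule.span 𝔽 {a, c}) :
    ρ.tprod ρ g (pairT a c) - pairT a c ∈ sym2 V := by
  have hρ : ρ.tprod ρ g (pairT a c) = pairT (ρ g a) (ρ g c) := by simp [pairT]
  have hcases : ∀ z ∈ Submodule.span 𝔽 ({a, c} : Set V), z = 0 ∨ z = a ∨ z = c ∨ z = a + c := by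
    intro z hz
    obtain ⟨s, t, rfl⟩ := Submodule.mem_span_pair.1 hz
    have h2 : ∀ r : 𝔽, r = 0 ∨ r = 1 := by decide
    rcases h2 s with rfl | rfl <;> rcases h2 t with rfl | rfl <;> simp
  have hne : ρ g a ≠ ρ g c ∧ ρ g a ≠ 0 ∧ ρ g c ≠ 0 := by
    refine ⟨fun h => ?_, fun h => ?_, fun h => ?_⟩
    · exact absurd (hli.injective (a₁ := 0) (a₂ := 1) (by simpa using h)) (by decide)
    · exact hli.ne_zero 0 (by simpa using h)
    · exact hli.ne_zero 1 (by simpa using h)
  have s1 := pairT_swap a c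
  have z0 : ∀ z : V ⊗[𝔽] V, z - z ∈ sym2 V := fun z => by rw [sub_self]; exact zero_mem _
  rw [hρ]
  rcases hcases _ ha with h | h | h | h <;> rcases hcases _ hc with h' | h' | h' | h' <;> rw [h, h'] at hne ⊢
  all_goals first
    | exact absurd rfl hne.1
    | exact absurd rfl hne.2.1
    | exact absurd rfl hne.2.2
    | exact z0 _
    | exact s1
    | (rw [pairT_left a c]; exact s1)
    | (rw [pairT_right a c]; exact s1)
    | (rw [add_comm a c, pairT_left c a]; exact z0 _)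
    | (rw [add_comm a c, pairT_right c a]; exact z0 _)

theorem exists_det2 {a c : V} (hli : LinearIndependent 𝔽 ![a, c]) :
    ∃ ω : V ⊗[𝔽] V →ₗ[𝔽] 𝔽, ω (pairT a c) = 1 ∧ ∀ z ∈ sq2 V, ω z = 0 := by
  obtain ⟨f, hf⟩ := LinearMap.exists_extend (p := Submodule.span 𝔽 (Set.range ![a, c]))
    ((Module.Basis.span hli).equivFun.toLinearMap)
  have hv : ∀ i j, f (![a, c] i) j = if j = i then (1 : 𝔽) else 0 := fun i j => by
    have h := LinearMap.congr_fun hf (Module.Basis.span hli i)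
    have hb : ((Module.Basis.span hli i : Submodule.span 𝔽 (Set.range ![a, c])) : V) = ![a, c] i := by
      rw [Module.Basis.span_apply]
    simp only [LinearMap.comp_apply, Submodule.subtype_apply, LinearEquiv.coe_coe, hb] at h
    rw [h, Module.Basis.equivFun_self]
    simp [eq_comm]
  let ω : V ⊗[𝔽] V →ₗ[𝔽] 𝔽 := TensorProduct.lift (LinearMap.mk₂ 𝔽 (fun x y => f x 0 * f y 1 - f x 1 * f y 0)
    (fun x x' y => by simp; ring) (fun r x y => by simp; ring)
    (fun x y y' => by simp; ring) (fun r x y => by simp; ring))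
  have hsq : ∀ z ∈ sq2 V, ω z = 0 := fun z hz => by
    induction hz using Submodule.span_induction with
    | mem x hx => obtain ⟨v, rfl⟩ := hx; simp [ω, mul_comm]
    | zero => simp
    | add x y _ _ hx hy => simp [hx, hy]
    | smul r x _ hx => simp [hx]
  refine ⟨ω, ?_, hsq⟩
  rw [pairT, map_add, map_add, hsq _ (Submodule.subset_span ⟨a, rfl⟩), hsq _ (Submodule.subset_span ⟨c, rfl⟩)]
  have h00 := hv 0 0
  have h01 := hv 0 1
  have h10 := hv 1 0
  have h11 := hv 1 1
  simp only [Matrix.cons_val_zero, Matrix.cons_val_one] at h00 h01 h10 h11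
  simp [ω, h00, h01, h10, h11]

theorem exists_split_of_finrank_two (hV : Module.finrank 𝔽 V = 2) :
    ∃ W : Submodule 𝔽 (V ⊗[𝔽] V), (∀ g : G, ∀ w ∈ W, ρ.tprod ρ g w ∈ W) ∧
      W ⊓ sq2 V = sym2 V ∧ W ⊔ sq2 V = ⊤ := by
  have : Module.Finite 𝔽 V := Module.finite_of_finrank_eq_succ hV
  let b := Module.finBasisOfFinrankEq 𝔽 V hV
  have hli : LinearIndependent 𝔽 ![b 0, b 1] := by
    convert b.linearIndependent using 1
    ext i; fin_cases i <;> rfl
  have hspan : ∀ z : V, z ∈ Submodule.span 𝔽 ({b 0, b 1} : Set V) := fun z => by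
    have h := Fin.sum_univ_two (fun i => b.repr z i • b i)
    rw [b.sum_repr] at h
    exact Submodule.mem_span_pair.2 ⟨_, _, h.symm⟩
  obtain ⟨ω, hω1, hω⟩ := exists_det2 hli
  have hinv : ∀ g, ρ.tprod ρ g (pairT (b 0) (b 1)) - pairT (b 0) (b 1) ∈ sym2 V := fun g =>
    pairT_invariant ρ g (by
      rw [show ![ρ g (b 0), ρ g (b 1)] = ⇑(ρ g) ∘ ![b 0, b 1] by ext i; fin_cases i <;> rfl]
      exact hli.map' (ρ g) (LinearMap.ker_eq_bot.2 (ρ.apply_bijective g).1)) (hspan _) (hspan _)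
  refine ⟨sym2 V ⊔ Submodule.span 𝔽 {pairT (b 0) (b 1)}, fun g z hz => ?_, le_antisymm ?_ ?_, ?_⟩
  · obtain ⟨x, hx, y, hy, rfl⟩ := Submodule.mem_sup.1 hz
    obtain ⟨r, rfl⟩ := Submodule.mem_span_singleton.1 hy
    rw [map_add, map_smul, ← sub_add_cancel (ρ.tprod ρ g (pairT (b 0) (b 1))) (pairT (b 0) (b 1)), smul_add,
      ← add_assoc]
    exact Submodule.mem_sup.2 ⟨_, add_mem (tprod_mem_sym2 ρ g hx) (Submodule.smul_mem _ r (hinv g)), _,
      Submodule.smul_mem _ r (Submodule.mem_span_singleton_self _), rfl⟩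
  · rintro z ⟨hz, hzS⟩
    obtain ⟨x, hx, y, hy, rfl⟩ := Submodule.mem_sup.1 hz
    obtain ⟨r, rfl⟩ := Submodule.mem_span_singleton.1 hy
    have h := hω _ hzS
    rw [map_add, map_smul, hω1, hω x (sym2_le_sq2 hx), zero_add, smul_eq_mul, mul_one] at h
    rw [h, zero_smul, add_zero]
    exact hx
  · exact le_inf le_sup_left sym2_le_sq2
  · have hS : ∀ i, b i ⊗ₜ[𝔽] b i ∈ sq2 V := fun i => Submodule.subset_span ⟨_, rfl⟩
    have hmem : ∀ i j, b i ⊗ₜ[𝔽] b j ∈ sym2 V ⊔ Submodule.span 𝔽 {pairT (b 0) (b 1)} ⊔ sq2 V := by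
      have h01 : b 0 ⊗ₜ[𝔽] b 1 ∈ sym2 V ⊔ Submodule.span 𝔽 {pairT (b 0) (b 1)} ⊔ sq2 V := by
        rw [show b 0 ⊗ₜ[𝔽] b 1 = pairT (b 0) (b 1) - (b 0 ⊗ₜ b 0 + b 1 ⊗ₜ b 1) by simp only [pairT]; abel]
        exact sub_mem (Submodule.mem_sup_left (Submodule.mem_sup_right (Submodule.mem_span_singleton_self _)))
          (Submodule.mem_sup_right (add_mem (hS 0) (hS 1)))
      intro i j
      fin_cases i <;> fin_cases j
      · exact Submodule.mem_sup_right (hS 0)
      · exact h01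
      · have hD : b 0 ⊗ₜ[𝔽] b 1 + b 1 ⊗ₜ b 0 ∈ sym2 V := Submodule.subset_span ⟨(b 0, b 1), rfl⟩
        simpa using sub_mem (Submodule.mem_sup_left (Submodule.mem_sup_left hD) :
          _ ∈ sym2 V ⊔ Submodule.span 𝔽 {pairT (b 0) (b 1)} ⊔ sq2 V) h01
      · exact Submodule.mem_sup_right (hS 1)
    rw [eq_top_iff, ← (b.tensorProduct b).span_eq, Submodule.span_le]
    rintro _ ⟨⟨i, j⟩, rfl⟩
    rw [Module.Basis.tensorProduct_apply]
    exact hmem i j

theorem exists_perm_basis (hG : Nat.card G = 2) [Module.Finite 𝔽 V] :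
    ∃ (ι : Type v) (b : Module.Basis ι 𝔽 V), ∀ g : G, ∀ i : ι, ∃ j : ι, ρ g (b i) = b j := by
  obtain ⟨s, hs⟩ : ∃ s : G, s ≠ 1 := by
    have : Nontrivial G := (Nat.card_pos_iff.1 (hG ▸ two_pos)).2.one_lt_card_iff_nontrivial.1 (by omega)
    exact exists_ne 1
  have hall : ∀ g : G, g = 1 ∨ g = s := fun g => by
    obtain ⟨x, y, hxy, hu⟩ := Nat.card_eq_two_iff.1 hG
    have hm : ∀ z : G, z = x ∨ z = y := fun z => by
      have : z ∈ ({x, y} : Set G) := hu ▸ Set.mem_univ z
      simpa using this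
    rcases hm g with rfl | rfl <;> rcases hm 1 with h | h <;> rcases hm s with h' | h' <;> grind
  have hss : s * s = 1 := (hall (s * s)).resolve_right fun h => hs (mul_eq_right.1 h)
  have hss' : ∀ v, ρ s (ρ s v) = v := fun v => by
    rw [← Module.End.mul_apply, ← map_mul, hss, map_one]; rfl
  let δ : V →ₗ[𝔽] V := LinearMap.id + ρ s
  have hδ : ∀ v, δ v = v + ρ s v := fun v => rfl
  have hneg : ∀ z : V, z + z = 0 := fun z => by
    rw [← one_smul 𝔽 z, ← add_smul, show (1 : 𝔽) + 1 = 0 from rfl, zero_smul]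
  have hle : LinearMap.range δ ≤ LinearMap.ker δ := by
    rintro _ ⟨v, rfl⟩
    rw [LinearMap.mem_ker, hδ, hδ, map_add, hss', add_comm (ρ s v) v]
    exact hneg _
  obtain ⟨q, hq⟩ := δ.rangeRestrict.exists_rightInverse_of_surjective δ.range_rangeRestrict
  obtain ⟨C, hC⟩ := ((LinearMap.range δ).comap (LinearMap.ker δ).subtype).exists_isCompl
  let bU := Module.finBasis 𝔽 (LinearMap.range δ)
  let bC := Module.finBasis 𝔽 C
  let e : (Fin (Module.finrank 𝔽 (LinearMap.range δ)) × Bool) ⊕ Fin (Module.finrank 𝔽 C) → V :=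
    Sum.elim (fun p => if p.2 then ρ s (q (bU p.1)) else q (bU p.1)) fun i => ((bC i : LinearMap.ker δ) : V)
  have hq' : ∀ z : LinearMap.range δ, δ (q z) = z := fun z => congrArg Subtype.val (LinearMap.congr_fun hq z)
  have hspan : ⊤ ≤ Submodule.span 𝔽 (Set.range e) := fun v _ => by
    have h1 : ∀ z : LinearMap.range δ, q z ∈ Submodule.span 𝔽 (Set.range e) := fun z => by
      rw [← bU.sum_repr z, map_sum]
      refine Submodule.sum_mem _ fun i _ => ?_
      rw [map_smul]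
      exact Submodule.smul_mem _ _ (Submodule.subset_span ⟨.inl (i, false), rfl⟩)
    have h2 : ∀ z : LinearMap.range δ, (z : V) ∈ Submodule.span 𝔽 (Set.range e) := fun z => by
      rw [← bU.sum_repr z, Submodule.coe_sum]
      refine Submodule.sum_mem _ fun i _ => ?_
      rw [Submodule.coe_smul, ← hq' (bU i), hδ]
      exact Submodule.smul_mem _ _ (add_mem (Submodule.subset_span ⟨.inl (i, false), rfl⟩)
        (Submodule.subset_span ⟨.inl (i, true), rfl⟩))
    have hv : v - q (δ.rangeRestrict v) ∈ LinearMap.ker δ := by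
      rw [LinearMap.mem_ker, map_sub, hq']; exact sub_self _
    obtain ⟨x, hx, y, hy, hxy⟩ := Submodule.mem_sup.1
      (hC.sup_eq_top ▸ Submodule.mem_top : (⟨_, hv⟩ : LinearMap.ker δ) ∈ _ ⊔ C)
    have hy' : (y : V) ∈ Submodule.span 𝔽 (Set.range e) := by
      have := bC.sum_repr ⟨y, hy⟩
      have h := congrArg (fun c : C => ((c : LinearMap.ker δ) : V)) this
      simp only [Submodule.coe_sum, Submodule.coe_smul] at h
      rw [← h]
      exact Submodule.sum_mem _ fun i _ => Submodule.smul_mem _ _ (Submodule.subset_span ⟨.inr i, rfl⟩)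
    have h3 : (x : V) + (y : V) = v - q (δ.rangeRestrict v) := congrArg Subtype.val hxy
    rw [show v = (x : V) + y + q (δ.rangeRestrict v) by rw [h3, sub_add_cancel]]
    exact add_mem (add_mem (h2 ⟨_, hx⟩) hy') (h1 _)
  have hcard : Fintype.card ((Fin (Module.finrank 𝔽 (LinearMap.range δ)) × Bool) ⊕ Fin (Module.finrank 𝔽 C)) =
      Module.finrank 𝔽 V := by
    have h1 := δ.finrank_range_add_finrank_ker
    have h2 := Submodule.finrank_add_eq_of_isCompl hC
    have h3 := (Submodule.comapSubtypeEquivOfLe hle).finrank_eq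
    simp only [Fintype.card_sum, Fintype.card_prod, Fintype.card_fin, Fintype.card_bool]
    omega
  have hli := linearIndependent_of_top_le_span_of_card_eq_finrank hspan hcard
  let B₀ := Module.Basis.mk hli hspan
  refine ⟨_, B₀.reindex (Equiv.ulift.{v}).symm, fun g i => ?_⟩
  obtain ⟨i⟩ := i
  rcases hall g with rfl | rfl
  · exact ⟨⟨i⟩, by rw [map_one]; rfl⟩
  · simp only [Module.Basis.reindex_apply, Equiv.symm_symm]
    change ∃ j : ULift _, ρ g (B₀ i) = B₀ j.down
    simp only [B₀, Module.Basis.mk_apply]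
    rcases i with ⟨p, b⟩ | p
    · refine ⟨⟨.inl (p, !b)⟩, ?_⟩
      cases b <;> simp [e, hss']
    · refine ⟨⟨.inr p⟩, ?_⟩
      have h : δ ((bC p : LinearMap.ker δ) : V) = 0 := (bC p : LinearMap.ker δ).2
      rw [hδ] at h
      change ρ g ((bC p : LinearMap.ker δ) : V) = _
      exact (eq_neg_of_add_eq_zero_right h).trans (neg_eq_of_add_eq_zero_left (hneg _))

theorem exists_lift_of_finrank_three (hV : Module.finrank 𝔽 V = 3) (t : V ⊗[𝔽] V)
    (ht : ∀ g : G, ρ.tprod ρ g t - t ∈ sq2 V) :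
    ∃ t' : V ⊗[𝔽] V, t' - t ∈ sq2 V ∧ ∀ g : G, ρ.tprod ρ g t' - t' ∈ sym2 V := by
  classical
  by_cases htS : t ∈ sq2 V
  · exact ⟨0, by simpa using neg_mem htS, fun g => by simp⟩
  have : Module.Finite 𝔽 V := Module.finite_of_finrank_eq_succ hV
  let b := Module.finBasisOfFinrankEq 𝔽 V hV
  obtain ⟨D, hD⟩ : ∃ D : V [⋀^Fin 3]→ₗ[𝔽] 𝔽, D = b.det := ⟨_, rfl⟩
  -- every tensor is congruent to a simple one
  have hsimple : ∃ a c : V, t - a ⊗ₜ[𝔽] c ∈ sq2 V := by
    have hsw : ∀ x y : V, x ⊗ₜ[𝔽] y + y ⊗ₜ x ∈ sq2 V := fun x y =>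
      sym2_le_sq2 (Submodule.subset_span ⟨(x, y), rfl⟩)
    have hcoef : ∀ z : V ⊗[𝔽] V, ∃ p q r : 𝔽,
        z - (p • b 0 ⊗ₜ[𝔽] b 1 + q • b 0 ⊗ₜ[𝔽] b 2 + r • b 1 ⊗ₜ[𝔽] b 2) ∈ sq2 V := by
      intro z
      have hz : z ∈ Submodule.span 𝔽 (Set.range (b.tensorProduct b)) := by
        rw [(b.tensorProduct b).span_eq]; exact Submodule.mem_top
      induction hz using Submodule.span_induction with
      | mem x hx =>
        obtain ⟨⟨i, j⟩, rfl⟩ := hx
        rw [Module.Basis.tensorProduct_apply]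
        fin_cases i <;> fin_cases j
        · exact ⟨0, 0, 0, by simpa using (Submodule.subset_span ⟨b 0, rfl⟩ : b 0 ⊗ₜ[𝔽] b 0 ∈ sq2 V)⟩
        · exact ⟨1, 0, 0, by simp⟩
        · exact ⟨0, 1, 0, by simp⟩
        · refine ⟨1, 0, 0, ?_⟩
          simp only [one_smul, zero_smul, add_zero]
          rw [show ∀ u v : V ⊗[𝔽] V, u - v = u + v from fun u v => by
            rw [sub_eq_add_neg, neg_eq_of_add_eq_zero_left (add_self_zero v)]]
          exact hsw _ _
        · exact ⟨0, 0, 0, by simpa using (Submodule.subset_span ⟨b 1, rfl⟩ : b 1 ⊗ₜ[𝔽] b 1 ∈ sq2 V)⟩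
        · exact ⟨0, 0, 1, by simp⟩
        · refine ⟨0, 1, 0, ?_⟩
          simp only [one_smul, zero_smul, zero_add, add_zero]
          rw [show ∀ u v : V ⊗[𝔽] V, u - v = u + v from fun u v => by
            rw [sub_eq_add_neg, neg_eq_of_add_eq_zero_left (add_self_zero v)]]
          exact hsw _ _
        · refine ⟨0, 0, 1, ?_⟩
          simp only [one_smul, zero_smul, zero_add]
          rw [show ∀ u v : V ⊗[𝔽] V, u - v = u + v from fun u v => by
            rw [sub_eq_add_neg, neg_eq_of_add_eq_zero_left (add_self_zero v)]]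
          exact hsw _ _
        · exact ⟨0, 0, 0, by simpa using (Submodule.subset_span ⟨b 2, rfl⟩ : b 2 ⊗ₜ[𝔽] b 2 ∈ sq2 V)⟩
      | zero => exact ⟨0, 0, 0, by simp⟩
      | add x y _ _ hx hy =>
        obtain ⟨p, q, r, h⟩ := hx
        obtain ⟨p', q', r', h'⟩ := hy
        refine ⟨p + p', q + q', r + r', ?_⟩
        convert add_mem h h' using 1
        simp only [add_smul]; abel
      | smul c x _ hx =>
        obtain ⟨p, q, r, h⟩ := hx
        refine ⟨c * p, c * q, c * r, ?_⟩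
        convert Submodule.smul_mem _ c h using 1
        simp only [TensorProduct.smul_tmul', smul_smul, smul_sub, smul_add]
    obtain ⟨p, q, r, h⟩ := hcoef t
    have h2 : p = 0 ∨ p = 1 := (by decide : ∀ z : 𝔽, z = 0 ∨ z = 1) p
    rcases h2 with rfl | rfl
    · refine ⟨q • b 0 + r • b 1, b 2, ?_⟩
      convert h using 2
      simp [TensorProduct.add_tmul, ← TensorProduct.smul_tmul']
    · refine ⟨b 0 - r • b 2, b 1 + q • b 2, ?_⟩
      have e : t - (b 0 - r • b 2) ⊗ₜ[𝔽] (b 1 + q • b 2) =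
          (t - ((1 : 𝔽) • b 0 ⊗ₜ[𝔽] b 1 + q • b 0 ⊗ₜ[𝔽] b 2 + r • b 1 ⊗ₜ[𝔽] b 2))
            + r • (b 2 ⊗ₜ[𝔽] b 1 + b 1 ⊗ₜ[𝔽] b 2) + (r * q) • (b 2 ⊗ₜ[𝔽] b 2) := by
        simp only [TensorProduct.sub_tmul, TensorProduct.tmul_add, TensorProduct.tmul_smul, one_smul,
          ← TensorProduct.smul_tmul', smul_smul, smul_add, smul_sub]
        rw [mul_comm r q]
        abel
      rw [e]
      exact add_mem (add_mem h (Submodule.smul_mem _ _ (hsw _ _)))
        (Submodule.smul_mem _ _ (Submodule.subset_span ⟨b 2, rfl⟩))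
  obtain ⟨a, c, hac⟩ := hsimple
  have hli : LinearIndependent 𝔽 ![a, c] := by
    rw [LinearIndependent.pair_iff]
    intro s r hsr
    by_contra hne
    apply htS
    suffices h : a ⊗ₜ[𝔽] c ∈ sq2 V by simpa using add_mem hac h
    have h2 : ∀ z : 𝔽, z = 0 ∨ z = 1 := by decide
    rcases h2 s with rfl | rfl <;> rcases h2 r with rfl | rfl <;> simp at hsr hne
    · simp [hsr]
    · simp [hsr]
    · rw [eq_neg_of_add_eq_zero_left hsr, TensorProduct.neg_tmul]
      exact neg_mem (Submodule.subset_span ⟨c, rfl⟩)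
  refine ⟨pairT a c, ?_, fun g => ?_⟩
  · rw [show pairT a c - t = (a ⊗ₜ[𝔽] a + c ⊗ₜ[𝔽] c) - (t - a ⊗ₜ[𝔽] c) by simp only [pairT]; abel]
    exact sub_mem (add_mem (Submodule.subset_span ⟨a, rfl⟩) (Submodule.subset_span ⟨c, rfl⟩)) hac
  have hg : ρ g a ⊗ₜ[𝔽] ρ g c - a ⊗ₜ[𝔽] c ∈ sq2 V := by
    have hstab : ∀ z ∈ sq2 V, ρ.tprod ρ g z ∈ sq2 V := fun z hz => by
      induction hz using Submodule.span_induction with
      | mem x hx => obtain ⟨v, rfl⟩ := hx; exact Submodule.subset_span ⟨ρ g v, by simp⟩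
      | zero => simp
      | add x y _ _ hx hy => rw [map_add]; exact add_mem hx hy
      | smul r x _ hx => rw [map_smul]; exact Submodule.smul_mem _ r hx
    have h := add_mem (sub_mem (ht g) (hstab _ hac)) hac
    rw [map_sub] at h
    convert h using 1
    simp [Representation.tprod_apply]
  have hdet : ∀ z, D ![z, ρ g a, ρ g c] = D ![z, a, c] := fun z => by
    have u1 : ∀ x w y : V, Function.update ![z, x, y] 1 w = ![z, w, y] := fun x w y => by
      ext i; fin_cases i <;> rfl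
    have u2 : ∀ x w y : V, Function.update ![z, x, y] 2 w = ![z, x, w] := fun x w y => by
      ext i; fin_cases i <;> rfl
    let ω : V ⊗[𝔽] V →ₗ[𝔽] 𝔽 := TensorProduct.lift (LinearMap.mk₂ 𝔽 (fun x y => D ![z, x, y])
      (fun x x' y => by have h := D.map_update_add ![z, x, y] 1 x x'; rwa [u1, u1, u1] at h)
      (fun r x y => by have h := D.map_update_smul ![z, x, y] 1 r x; rwa [u1, u1] at h)
      (fun x y y' => by have h := D.map_update_add ![z, x, y] 2 y y'; rwa [u2, u2, u2] at h)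
      (fun r x y => by have h := D.map_update_smul ![z, x, y] 2 r y; rwa [u2, u2] at h))
    have hω : ∀ w ∈ sq2 V, ω w = 0 := fun w hw => by
      induction hw using Submodule.span_induction with
      | mem x hx =>
        obtain ⟨v, rfl⟩ := hx
        exact D.map_eq_zero_of_eq ![z, v, v] (i := 1) (j := 2) rfl (by decide)
      | zero => simp
      | add x y _ _ hx hy => simp [hx, hy]
      | smul r x _ hx => simp [hx]
    have := hω _ hg
    rw [map_sub, sub_eq_zero] at this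
    exact this
  have hspan : ∀ z, D ![z, a, c] = 0 → z ∈ Submodule.span 𝔽 ({a, c} : Set V) := fun z hz => by
    by_contra hzs
    have h3 : LinearIndependent 𝔽 ![z, a, c] := linearIndependent_finCons.2 ⟨hli, by
      rwa [Matrix.range_cons, Matrix.range_cons, Matrix.range_empty, Set.union_empty, Set.singleton_union]⟩
    let B := basisOfLinearIndependentOfCardEqFinrank h3 (by simp [hV])
    have := (b.isUnit_det B).ne_zero
    rw [← hD] at this
    apply this
    rw [coe_basisOfLinearIndependentOfCardEqFinrank]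
    exact hz
  refine pairT_invariant ρ g ?_ (hspan _ ?_) (hspan _ ?_)
  · rw [show ![ρ g a, ρ g c] = ⇑(ρ g) ∘ ![a, c] by ext i; fin_cases i <;> rfl]
    exact hli.map' (ρ g) (LinearMap.ker_eq_bot.2 (ρ.apply_bijective g).1)
  · rw [← hdet]
    exact D.map_eq_zero_of_eq ![ρ g a, ρ g a, ρ g c] (i := 0) (j := 1) rfl (by decide)
  · rw [← hdet]
    exact D.map_eq_zero_of_eq ![ρ g c, ρ g a, ρ g c] (i := 0) (j := 2) rfl (by decide)

end Pair

end GrpCohLib
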